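import Groth.Agent.L19.OmegaSh.Along

/-! # Derivations along a morphism from compatible families of infinitesimal points -/

set_option autoImplicit false
set_option linter.style.haveILetI false
set_option linter.unusedSectionVars false
set_option backward.isDefEq.respectTransparency.types false
set_option backward.isDefEq.respectTransparency false

universe u

open CategoryTheory CategoryTheory.Limits AlgebraicGeometry TopologicalSpace Opposite

noncomputable section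

namespace Groth.L14.HomTan

open Groth.L18.Frame (rs ro rs_rs ro_ro rs_smul ro_self rs_self)
open Groth.L19.OmegaSh
open _root_.OmegaSh (Der)

variable {X Q S : Scheme.{u}}

/-- A compatible family of infinitesimal points of `Q` over `h`. -/
structure AlongFam (p : Q ⟶ S) (h : X ⟶ Q) (G : X.Modules) where
  /-- the affine opens on which the family is given -/
  P : X.affineOpens → Prop
  exists_P : ∀ (x : X) (O : X.Opens), x ∈ O → ∃ U, P U ∧ x ∈ U.1 ∧ U.1 ≤ O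
  /-- the points -/
  r : ∀ U : X.affineOpens, P U → (Spec (L G U.1) ⟶ Q)
  prL_r : ∀ U pU, Spec.map (prL G U.1) ≫ r U pU = U.2.fromSpec ≫ h
  resL_r : ∀ U U' pU pU' (hU : U'.1 ≤ U.1), Spec.map (resL G hU) ≫ r U pU = r U' pU'
  r_base : ∀ U pU, r U pU ≫ p = (Spec.map (inlL G U.1) ≫ U.2.fromSpec) ≫ h ≫ p

namespace AlongFam

variable {p : Q ⟶ S} {h : X ⟶ Q} {G : X.Modules} (F : AlongFam p h G)

theorem existsUnique_val (Z : Q.Opens) (a : Γ(Q, Z)) :
    ∃! t : Γ(G, h ⁻¹ᵁ Z), ∀ (U : X.affineOpens) (pU : F.P U) (e : U.1 ≤ h ⁻¹ᵁ Z),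
      rs G e t = μ G (F.r U pU) Z (top_le_of_prL _ h (F.prL_r U pU) e) a :=
  existsUnique_glue G F.P F.exists_P (h ⁻¹ᵁ Z)
    (fun U pU e => μ G (F.r U pU) Z (top_le_of_prL _ h (F.prL_r U pU) e) a)
    fun U U' pU pU' hZ hZ' hle => by
      rw [← μ_res G hle (F.r U pU) (F.r U' pU') (F.resL_r U U' pU pU' hle) le_rfl
        (top_le_of_prL _ h (F.prL_r U pU) hZ) (top_le_of_prL _ h (F.prL_r U' pU') hZ'), ro_self]

/-- The values of the derivation. -/
def val (Z : Q.Opens) (a : Γ(Q, Z)) : Γ(G, h ⁻¹ᵁ Z) := (F.existsUnique_val Z a).choose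

theorem val_spec (Z : Q.Opens) (a : Γ(Q, Z)) (U : X.affineOpens) (pU : F.P U) (e : U.1 ≤ h ⁻¹ᵁ Z) :
    rs G e (F.val Z a) = μ G (F.r U pU) Z (top_le_of_prL _ h (F.prL_r U pU) e) a :=
  (F.existsUnique_val Z a).choose_spec.1 U pU e

/-- The derivation of a family of points. -/
def der : Der p ((Scheme.Modules.pushforward h).obj G) where
  d {Z} := AddMonoidHom.mk' (fun a => F.val Z.unop a) fun a b => eq_of_basis F.P F.exists_P _ _ fun U pU e => by
    rw [val_spec F _ _ U pU, μ_add]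
    refine Eq.trans ?_ (map_add _ _ _).symm
    rw [← F.val_spec Z.unop a U pU e, ← F.val_spec Z.unop b U pU e]
  d_mul {Z} (a b : Γ(Q, Z.unop)) := eq_of_basis (G := G) F.P F.exists_P (Z := h ⁻¹ᵁ Z.unop) _ _ fun U pU e => by
    show rs G e (F.val Z.unop (a * b)) =
      rs G e ((h.app Z.unop a • F.val Z.unop b : Γ(G, h ⁻¹ᵁ Z.unop)) + h.app Z.unop b • F.val Z.unop a)
    rw [val_spec F _ _ U pU, μ_mul G U.2 _ h (F.prL_r U pU) _ _ e]
    refine Eq.trans ?_ (map_add _ _ _).symm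
    show _ = rs G e (h.app Z.unop a • F.val Z.unop b : Γ(G, h ⁻¹ᵁ Z.unop)) +
      rs G e (h.app Z.unop b • F.val Z.unop a : Γ(G, h ⁻¹ᵁ Z.unop))
    rw [rs_smul, rs_smul, val_spec F _ _ U pU, val_spec F _ _ U pU]
    rfl
  d_map {Z Z'} i a := eq_of_basis (G := G) F.P F.exists_P (Z := h ⁻¹ᵁ Z'.unop) _ _ fun U pU e => by
    show rs G e (F.val Z'.unop (ro i.unop.le a)) =
      rs G e (rs G (h.preimage_mono i.unop.le) (F.val Z.unop a))
    rw [rs_rs, val_spec F _ _ U pU, val_spec F _ _ U pU,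
      μ_res G le_rfl (F.r U pU) (F.r U pU) (F.resL_r U U pU pU le_rfl)
      i.unop.le (top_le_of_prL _ h (F.prL_r U pU) (e.trans (h.preimage_mono i.unop.le))), rs_self]
  d_app {V} c := eq_of_basis (G := G) F.P F.exists_P (Z := h ⁻¹ᵁ (p ⁻¹ᵁ V.unop)) _ _ fun U pU e => by
    show rs G e (F.val (p ⁻¹ᵁ V.unop) (p.app V.unop c)) = rs G e 0
    refine (F.val_spec _ _ U pU e).trans ?_
    refine Eq.trans ?_ (map_zero _).symm
    have hr := F.r_base U pU
    have e0 : ⊤ ≤ F.r U pU ⁻¹ᵁ (p ⁻¹ᵁ V.unop) := top_le_of_prL _ h (F.prL_r U pU) e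
    have e1 : ⊤ ≤ (F.r U pU ≫ p) ⁻¹ᵁ V.unop := e0
    have e' : ⊤ ≤ ((Spec.map (inlL G U.1) ≫ U.2.fromSpec) ≫ h ≫ p) ⁻¹ᵁ V.unop := hr ▸ e1
    have h1 := μ_comp G (F.r U pU) p (W := p ⁻¹ᵁ V.unop) e0 le_rfl e1 c
    rw [← Scheme.Hom.app_eq_appLE] at h1
    rw [← h1]
    refine (congrArg (snd' G) (congr($(τ_congr G hr V.unop e1 e') c))).trans ?_
    have e'' : ⊤ ≤ (Spec.map (inlL G U.1) ≫ U.2.fromSpec) ⁻¹ᵁ ((h ≫ p) ⁻¹ᵁ V.unop) := e'
    refine (μ_comp G _ (h ≫ p) (W := (h ≫ p) ⁻¹ᵁ V.unop) e'' le_rfl e' c).trans ?_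
    rw [μ_specMap U.2 _ _ (show U.1 ≤ (h ≫ p) ⁻¹ᵁ V.unop from e)]
    exact snd_mk G _ _

theorem der_app (Z : Q.Opens) (a : Γ(Q, Z)) : F.der.app Z a = F.val Z a := rfl

/-- The family is recovered from its derivation. -/
theorem ePt_der (U : X.affineOpens) (pU : F.P U) (W : Q.affineOpens) (e : U.1 ≤ h ⁻¹ᵁ W.1) :
    ePt F.der U W e = F.r U pU :=
  (eq_ePt F.der U W e _ (F.prL_r U pU) fun a => (F.val_spec W.1 a U pU e).symm).symm

end AlongFam

variable {p : Q ⟶ S} {h : X ⟶ Q} {G : X.Modules}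

/-- The opens small enough to map into an affine open. -/
def Small (h : X ⟶ Q) (U : X.affineOpens) : Prop := ∃ W : Q.affineOpens, U.1 ≤ h ⁻¹ᵁ W.1

theorem exists_small (h : X ⟶ Q) (x : X) (O : X.Opens) (hx : x ∈ O) : ∃ U, Small h U ∧ x ∈ U.1 ∧ U.1 ≤ O := by
  obtain ⟨_, ⟨W, hW, rfl⟩, hxW, -⟩ :=
    Q.isBasis_affineOpens.exists_subset_of_mem_open (Set.mem_univ (h x)) isOpen_univ
  obtain ⟨_, ⟨U, hU, rfl⟩, hxU, hUle⟩ :=
    X.isBasis_affineOpens.exists_subset_of_mem_open (show x ∈ O ⊓ h ⁻¹ᵁ W from ⟨hx, hxW⟩) (O ⊓ h ⁻¹ᵁ W).2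
  exact ⟨⟨U, hU⟩, ⟨⟨W, hW⟩, fun z hz => (hUle hz).2⟩, hxU, fun z hz => (hUle hz).1⟩

/-- Derivations along `h` with the same points agree. -/
theorem der_ext_ePt (E E' : Der p ((Scheme.Modules.pushforward h).obj G))
    (H : ∀ (U : X.affineOpens) (W : Q.affineOpens) (e : U.1 ≤ h ⁻¹ᵁ W.1), ePt E U W e = ePt E' U W e) : E = E' := by
  refine PresheafOfModules.Derivation.ext ?_
  ext Z a
  refine eq_of_basis (G := G) (Small h) (exists_small h) (Z := h ⁻¹ᵁ Z.unop) _ _ fun U hU e => ?_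
  obtain ⟨W, eW⟩ := hU
  refine (μ_ePt E U W eW Z.unop e a).symm.trans (Eq.trans ?_ (μ_ePt E' U W eW Z.unop e a))
  exact congrArg (snd' G) (congr($(τ_congr G (H U W eW) Z.unop _ _) a))

end Groth.L14.HomTan
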