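import Groth.Agent.L14.HomTan.AlongFam
import Groth.Agent.L14.LocHilb.Surj

/-! # Charts of `X[ε]` by the square-zero extensions of affine opens -/

set_option autoImplicit false
set_option linter.style.haveILetI false
set_option linter.unusedSectionVars false
set_option backward.isDefEq.respectTransparency.types false
set_option backward.isDefEq.respectTransparency false

universe u

open CategoryTheory CategoryTheory.Limits AlgebraicGeometry TopologicalSpace Opposite ArtFun ArtFun.Art

noncomputable section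

namespace Groth.L14.HomTan

open Groth.L18.Frame (rs ro rs_rs ro_ro rs_smul ro_self rs_self)
open Groth.L19.OmegaSh
open Groth.L14.DefLift (baseS exists_open appLE_congr_hom isAffineOpen_of_preimage surjective_i)
open Groth.L14.LocHilb (XE prX le_prX iX pX iX_pX iX_eps exists_dec eps eps_mul_eq_zero_iff iX_eq_of_dec fst_eps)

variable {k : Type u} [Field k] {X : Scheme.{u}} (x : X ⟶ specPt k)

/-- Constants on an open. -/
def kU (U : X.Opens) : k →+* Γ(X, U) :=
  (x.appLE ⊤ U le_top).hom.comp (Scheme.ΓSpecIso (CommRingCat.of k)).inv.hom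

theorem ro_kU {U U' : X.Opens} (h : U' ≤ U) (c : k) : ro h (kU x U c) = kU x U' c :=
  ConcreteCategory.congr_hom (Scheme.Hom.appLE_map x (U := ⊤) (V := U) le_top (homOfLE h).op) _

theorem specMap_kU {U : X.Opens} (hU : IsAffineOpen U) :
    Spec.map (CommRingCat.ofHom (kU x U)) = hU.fromSpec ≫ x := by
  rw [← IsAffineOpen.SpecMap_appLE_fromSpec x (isAffineOpen_top _) hU le_top, IsAffineOpen.fromSpec_top,
    Scheme.isoSpec_Spec_inv, ← Spec.map_comp]
  rfl

theorem fst_inlL (U : X.Opens) (a : Γ(X, U)) :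
    fst' (Coh.structureModule X) (inlL (Coh.structureModule X) U a) = a := fst_mk _ _ _

theorem snd_inlL (U : X.Opens) (a : Γ(X, U)) :
    snd' (Coh.structureModule X) (inlL (Coh.structureModule X) U a) = 0 := snd_mk _ _ _

theorem inlL_prL' (U : X.Opens) : inlL (Coh.structureModule X) U ≫ prL (Coh.structureModule X) U = 𝟙 _ :=
  CommRingCat.hom_ext (RingHom.ext fun a => fst_inlL U a)

theorem id_appLE'' {U : X.Opens} (a : Γ(X, U)) : (𝟙 X : X ⟶ X).appLE U U le_rfl a = a := by
  rw [Scheme.Hom.appLE]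
  simp
  exact congr($(X.presheaf.map_id (op U)) a)

/-- `k[ε] → Γ(X, U)[ε]`. -/
def κ (U : X.Opens) : dual k k →+* L (Coh.structureModule X) U where
  toFun a := mk (Coh.structureModule X) U (kU x U (TrivSqZeroExt.fst (show DualNumber k from a)))
    (kU x U (TrivSqZeroExt.snd (show DualNumber k from a)))
  map_one' := Groth.L19.OmegaSh.ext _ ((fst_mk _ _ _).trans ((map_one (kU x U)).trans (fst_one (Coh.structureModule X) U).symm))
    ((snd_mk _ _ _).trans ((map_zero (kU x U)).trans (snd_one (Coh.structureModule X) U).symm))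
  map_zero' := Groth.L19.OmegaSh.ext _ ((fst_mk _ _ _).trans ((map_zero (kU x U)).trans (fst_zero (Coh.structureModule X) U).symm))
    ((snd_mk _ _ _).trans ((map_zero (kU x U)).trans (snd_zero (Coh.structureModule X) U).symm))
  map_add' a b := by
    refine Groth.L19.OmegaSh.ext _ ?_ ?_
    · rw [fst_add, fst_mk, fst_mk, fst_mk]
      exact map_add (kU x U) _ _
    · rw [snd_add, snd_mk, snd_mk, snd_mk]
      exact map_add (kU x U) _ _
  map_mul' a b := by
    refine Groth.L19.OmegaSh.ext _ ?_ ?_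
    · rw [fst_mul, fst_mk, fst_mk, fst_mk]
      exact map_mul (kU x U) _ _
    · rw [snd_mul, snd_mk, snd_mk, snd_mk, fst_mk, fst_mk,
        show TrivSqZeroExt.snd (show DualNumber k from a * b) = _ from TrivSqZeroExt.snd_mul _ _, op_smul_eq_smul]
      show kU x U (_ * _ + _ * _) = kU x U _ * kU x U _ + kU x U _ * kU x U _
      rw [map_add, map_mul, map_mul]

theorem κ_prL (U : X.Opens) : CommRingCat.ofHom (R := dual k k) (S := L (Coh.structureModule X) U) (κ x U) ≫ prL (Coh.structureModule X) U =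
    CommRingCat.ofHom (dual k k).res.toRingHom ≫ CommRingCat.ofHom (kU x U) := by
  ext a
  exact fst_mk _ _ _

theorem κ_resL {U U' : X.Opens} (h : U' ≤ U) :
    CommRingCat.ofHom (R := dual k k) (S := L (Coh.structureModule X) U) (κ x U) ≫ resL (Coh.structureModule X) h = CommRingCat.ofHom (κ x U') := by
  ext a
  refine Groth.L19.OmegaSh.ext _ ?_ ?_
  · show fst' _ (resL (Coh.structureModule X) h (mk (Coh.structureModule X) U _ _)) = fst' _ (mk (Coh.structureModule X) U' _ _)
    rw [fst_resL, fst_mk, fst_mk, ro_kU]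
  · show snd' _ (resL (Coh.structureModule X) h (mk (Coh.structureModule X) U _ _)) = snd' _ (mk (Coh.structureModule X) U' _ _)
    rw [snd_resL, snd_mk, snd_mk]
    exact ro_kU x h _

theorem κ_algebraMap (U : X.Opens) :
    CommRingCat.ofHom (algebraMap k (dual k k)) ≫ CommRingCat.ofHom (R := dual k k) (S := L (Coh.structureModule X) U) (κ x U) =
      CommRingCat.ofHom (kU x U) ≫ inlL (Coh.structureModule X) U := by
  ext c
  refine Groth.L19.OmegaSh.ext _ ?_ ?_
  · exact (fst_mk _ _ _).trans (fst_inlL U (kU x U c)).symm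
  · refine (snd_mk _ _ _).trans (Eq.trans ?_ (snd_inlL U (kU x U c)).symm)
    exact map_zero (kU x U)

/-- The chart of `X[ε]` over an affine open. -/
def jU (U : X.affineOpens) : Spec (L (Coh.structureModule X) U.1) ⟶ (XE x).total :=
  pullback.lift (Spec.map (inlL (Coh.structureModule X) U.1) ≫ U.2.fromSpec) (Spec.map (CommRingCat.ofHom (R := dual k k) (S := L (Coh.structureModule X) U.1) (κ x U.1))) (by
    rw [Category.assoc, ← specMap_kU x U.2, ← Spec.map_comp]
    show _ = _ ≫ Spec.map (CommRingCat.ofHom (algebraMap k (dual k k)))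
    rw [← Spec.map_comp, κ_algebraMap])

theorem jU_prX (U : X.affineOpens) :
    jU x U ≫ prX x = Spec.map (inlL (Coh.structureModule X) U.1) ≫ U.2.fromSpec := pullback.lift_fst _ _ _

theorem jU_snd (U : X.affineOpens) : jU x U ≫ pullback.snd x (specOver (dual k k)) =
    Spec.map (CommRingCat.ofHom (R := dual k k) (S := L (Coh.structureModule X) U.1) (κ x U.1)) :=
  pullback.lift_snd _ _ _

theorem prL_jU (U : X.affineOpens) :
    Spec.map (prL (Coh.structureModule X) U.1) ≫ jU x U = U.2.fromSpec ≫ (XE x).i := by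
  apply pullback.hom_ext
  · rw [Category.assoc, Category.assoc, show (XE x).i ≫ pullback.fst x (specOver (dual k k)) = 𝟙 X from XAincl_fst x _,
      Category.comp_id, jU, pullback.lift_fst, ← Spec.map_comp_assoc,
      inlL_prL', Spec.map_id, Category.id_comp]
  · rw [Category.assoc, Category.assoc, show (XE x).i ≫ pullback.snd x (specOver (dual k k)) = x ≫ specRes _ from
        XAincl_snd x _, jU, pullback.lift_snd, ← Spec.map_comp, κ_prL, Spec.map_comp, specMap_kU x U.2, Category.assoc]

theorem resL_jU {U U' : X.affineOpens} (h : U'.1 ≤ U.1) :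
    Spec.map (resL (Coh.structureModule X) h) ≫ jU x U = jU x U' := by
  apply pullback.hom_ext
  · rw [Category.assoc, jU, jU, pullback.lift_fst, pullback.lift_fst, ← Spec.map_comp_assoc,
      show inlL (Coh.structureModule X) U.1 ≫ resL (Coh.structureModule X) h =
          X.presheaf.map (homOfLE h).op ≫ inlL (Coh.structureModule X) U'.1 from ?_,
      Spec.map_comp_assoc, IsAffineOpen.map_fromSpec]
    ext a
    refine Groth.L19.OmegaSh.ext _ ?_ ?_
    · show fst' _ (resL _ h (inlL _ U.1 a)) = fst' _ (inlL _ U'.1 (ro h a))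
      rw [fst_resL, fst_inlL, fst_inlL]
    · show snd' _ (resL _ h (inlL _ U.1 a)) = snd' _ (inlL _ U'.1 (ro h a))
      rw [snd_resL, snd_inlL, snd_inlL]
      exact map_zero _
  · rw [Category.assoc, jU, jU, pullback.lift_snd, pullback.lift_snd, ← Spec.map_comp, κ_resL]

theorem preimage_prX (U : X.Opens) : (XE x).i ⁻¹ᵁ (prX x ⁻¹ᵁ U) = U := by
  rw [← Scheme.Hom.comp_preimage, show (XE x).i ≫ prX x = 𝟙 X from XAincl_fst x _]
  rfl

theorem isAffineOpen_prX (U : X.affineOpens) : IsAffineOpen (prX x ⁻¹ᵁ U.1) :=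
  isAffineOpen_of_preimage _ (by rw [preimage_prX]; exact U.2)

theorem top_le_jU (U : X.affineOpens) : ⊤ ≤ jU x U ⁻¹ᵁ (prX x ⁻¹ᵁ U.1) :=
  top_le_of_prL _ _ (prL_jU x U) (preimage_prX x U.1).ge

theorem isOpenImmersion_jU (U : X.affineOpens) : IsOpenImmersion (jU x U) := by
  let G := Coh.structureModule X
  let V := prX x ⁻¹ᵁ U.1
  have hV : IsAffineOpen V := isAffineOpen_prX x U
  have eU : U.1 ≤ (XE x).i ⁻¹ᵁ V := (preimage_prX x U.1).ge
  let t : Γ((XE x).total, V) ⟶ L G U.1 := τ G (jU x U) V (top_le_jU x U)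
  have hfst : ∀ z, fst' G (t z) = (XE x).i.appLE V U.1 eU z := fun z =>
    ConcreteCategory.congr_hom (τ_fst G U.2 (jU x U) (XE x).i (prL_jU x U) V (top_le_jU x U) eU) z
  have hp : ∀ a : Γ(X, U.1), t ((prX x).appLE U.1 V le_rfl a) = inlL G U.1 a := fun a => by
    have e1 : ⊤ ≤ (jU x U ≫ prX x) ⁻¹ᵁ U.1 := top_le_jU x U
    have h1 : t ((prX x).appLE U.1 V le_rfl a) = τ G (jU x U ≫ prX x) U.1 e1 a := by
      simp only [t, τ, ← CommRingCat.comp_apply]
      rw [Scheme.Hom.appLE_comp_appLE_assoc]
    rw [h1]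
    refine (congr($(τ_congr G (jU_prX x U) U.1 e1 (jU_prX x U ▸ e1)) a)).trans ?_
    refine Groth.L19.OmegaSh.ext _ ?_ ?_
    · refine (congr($(τ_fst G U.2 _ (𝟙 X) ?_ U.1 _ le_rfl) a)).trans ((id_appLE'' a).trans (fst_inlL U.1 a).symm)
      rw [← Spec.map_comp_assoc, inlL_prL', Spec.map_id, Category.id_comp, Category.comp_id]
    · refine (μ_specMap U.2 (inlL G U.1) U.1 le_rfl _ a).trans ?_
      rw [ro_self]
  have he : ∀ d : dual k k, t (baseS (XE x) V d) = κ x U.1 d := fun d => by
    have e1 : ⊤ ≤ (jU x U ≫ pullback.snd x (specOver (dual k k))) ⁻¹ᵁ ⊤ := le_top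
    have h1 : t (baseS (XE x) V d) = τ G (jU x U ≫ pullback.snd x (specOver (dual k k))) ⊤ e1
        ((Scheme.ΓSpecIso (CommRingCat.of (dual k k))).inv d) := by
      have hc : (XE x).f.appLE ⊤ V le_top ≫ (jU x U).appLE V ⊤ (top_le_jU x U) =
          (jU x U ≫ pullback.snd x (specOver (dual k k))).appLE ⊤ ⊤ e1 := Scheme.Hom.appLE_comp_appLE _ _ _ _ _ _ _
      exact congrArg (Scheme.ΓSpecIso (L G U.1)).hom
        (ConcreteCategory.congr_hom hc ((Scheme.ΓSpecIso (CommRingCat.of (dual k k))).inv d))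
    rw [h1]
    refine (congr($(τ_congr G (jU_snd x U) ⊤ e1 le_top) _)).trans ?_
    rw [τ, show (Spec.map (CommRingCat.ofHom (R := dual k k) (S := L (Coh.structureModule X) U.1) (κ x U.1))).appLE ⊤ ⊤ le_top =
      (Spec.map (CommRingCat.ofHom (R := dual k k) (S := L (Coh.structureModule X) U.1) (κ x U.1))).appTop from (Scheme.Hom.app_eq_appLE _).symm, Scheme.ΓSpecIso_naturality]
    simp
    rfl
  have hbij : Function.Bijective t := by
    have hW : IsAffineOpen ((XE x).i ⁻¹ᵁ V) := by rw [preimage_prX]; exact U.2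
    have heps : t (baseS (XE x) V eps) = mk G U.1 0 (1 : Γ(X, U.1)) := by
      rw [he]
      refine Groth.L19.OmegaSh.ext _ ?_ ?_
      · exact (fst_mk _ _ _).trans ((map_zero (kU x U.1)).trans (fst_mk G (0 : Γ(X, U.1)) (1 : Γ(X, U.1))).symm)
      · exact (snd_mk _ _ _).trans ((map_one (kU x U.1)).trans (snd_mk G (0 : Γ(X, U.1)) (1 : Γ(X, U.1))).symm)
    constructor
    · rw [injective_iff_map_eq_zero]
      intro z hz
      have hi : ∀ w, fst' G (t w) = 0 → iX V w = 0 := fun w hw => by
        rw [hfst] at hw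
        have h2 : (XE x).i.appLE V U.1 eU w = ro eU (iX V w) :=
          (ConcreteCategory.congr_hom (Scheme.Hom.appLE_map (XE x).i le_rfl (homOfLE eU).op) w).symm
        rw [h2] at hw
        have h3 := congrArg (ro (preimage_prX x U.1).le) hw
        rw [ro_ro, ro_self] at h3
        exact h3.trans (map_zero _)
      obtain ⟨r, hr⟩ := exists_dec hV z
      have hz0 : iX V z = 0 := hi z (by rw [hz, fst_zero])
      rw [hz0, map_zero, sub_zero] at hr
      have hr0 : iX V r = 0 := by
        refine hi r ?_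
        have h4 := congrArg (snd' G) hz
        rw [hr, map_mul, heps, snd_mul, fst_mk, snd_mk, snd_zero, zero_smul, zero_add] at h4
        exact (mul_one _).symm.trans h4
      rw [hr]
      exact (eps_mul_eq_zero_iff (XE x) hV hW rfl r).mpr hr0
    · intro l
      refine ⟨(prX x).appLE U.1 V le_rfl (fst' G l) +
        baseS (XE x) V eps * (prX x).appLE U.1 V le_rfl (snd' G l), ?_⟩
      rw [map_add, map_mul, hp, hp, heps]
      refine Groth.L19.OmegaSh.ext _ ?_ ?_
      · rw [fst_add, fst_mul, fst_mk, zero_mul, add_zero]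
        exact fst_inlL _ _
      · rw [snd_add, snd_mul, fst_mk, snd_mk, zero_smul, zero_add, snd_inlL, fst_inlL]
        exact (zero_add _).trans (mul_one (M := Γ(X, U.1)) _)
  haveI : IsIso t := (ConcreteCategory.isIso_iff_bijective _).2 hbij
  rw [eq_specMap_τ (jU x U) hV (top_le_jU x U)]
  infer_instance

end Groth.L14.HomTan
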