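import Groth.Agent.L14.HomTan.Chart

/-! # Morphisms from `X[ε]` and derivations along a morphism -/

set_option autoImplicit false
set_option linter.style.haveILetI false
set_option linter.unusedSectionVars false
set_option backward.isDefEq.respectTransparency.types false
set_option backward.isDefEq.respectTransparency false

universe u

open CategoryTheory CategoryTheory.Limits AlgebraicGeometry TopologicalSpace Opposite ArtFun ArtFun.Art

noncomputable section

namespace Groth.L14.HomTan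

open Groth.L18.Frame (rs ro rs_rs ro_ro rs_smul ro_self rs_self)
open Groth.L19.OmegaSh
open Groth.L14.DefLift (surjective_i)
open Groth.L14.LocHilb (XE prX)
open _root_.OmegaSh (Der)

variable {k : Type u} [Field k] {X : Scheme.{u}} (x : X ⟶ specPt k)
variable {Y : Scheme.{u}} (y : Y ⟶ specPt k) (f : X ⟶ Y)

/-- First-order deformations of `f`. -/
def Pts : Type u := {φ : (XE x).total ⟶ Y //
  φ ≫ y = pullback.snd x (specOver (dual k k)) ≫ specOver (dual k k) ∧ (XE x).i ≫ φ = f}

variable {x y f}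

variable (hf : f ≫ y = x)

include hf in
/-- The family of infinitesimal points of a deformation of `f`. -/
def famOf (φ : Pts x y f) : AlongFam y f (Coh.structureModule X) where
  P := Small f
  exists_P := exists_small f
  r U _ := jU x U ≫ φ.1
  prL_r U _ := by rw [← Category.assoc, prL_jU, Category.assoc, φ.2.2]
  resL_r U U' _ _ h := by rw [← Category.assoc, resL_jU]
  r_base U _ := by
    rw [Category.assoc, φ.2.1, ← pullback.condition, ← Category.assoc, jU_prX, hf]

/-- The derivation of a deformation of `f`. -/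
def derOf (φ : Pts x y f) : Der y ((Scheme.Modules.pushforward f).obj (Coh.structureModule X)) := (famOf hf φ).der

theorem ePt_derOf (φ : Pts x y f) (U : X.affineOpens) (W : Y.affineOpens) (e : U.1 ≤ f ⁻¹ᵁ W.1) :
    ePt (derOf hf φ) U W e = jU x U ≫ φ.1 :=
  (famOf hf φ).ePt_der U ⟨W, e⟩ W e

theorem exists_jU_eq (z : (XE x).total) (O : (XE x).total.Opens) (hz : z ∈ O) :
    ∃ (U : X.affineOpens) (W : Y.affineOpens) (_ : U.1 ≤ f ⁻¹ᵁ W.1) (q : Spec (L (Coh.structureModule X) U.1)),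
      jU x U q = z ∧ U.1 ≤ (XE x).i ⁻¹ᵁ O := by
  obtain ⟨w, rfl⟩ := surjective_i (XE x) z
  obtain ⟨U, ⟨W, e⟩, hwU, hUO⟩ := exists_small f w ((XE x).i ⁻¹ᵁ O) hz
  obtain ⟨p, hp⟩ := U.2.range_fromSpec.ge hwU
  refine ⟨U, W, e, Spec.map (prL (Coh.structureModule X) U.1) p, ?_, hUO⟩
  rw [← Scheme.Hom.comp_apply, prL_jU, Scheme.Hom.comp_apply, hp]

variable (f) in
/-- The indices of the charts. -/
def Idx : Type u := {U : X.affineOpens // ∃ W : Y.affineOpens, U.1 ≤ f ⁻¹ᵁ W.1}

variable (x f) in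
/-- The cover of `X[ε]` by charts. -/
def chartCover : (XE x).total.OpenCover :=
  Scheme.Cover.mkOfCovers (P := @IsOpenImmersion) (Idx f) (fun U => Spec (L (Coh.structureModule X) U.1.1))
    (fun U => jU x U.1)
    (fun z => by
      obtain ⟨U, W, e, q, hq, -⟩ := exists_jU_eq (x := x) (f := f) z ⊤ trivial
      exact ⟨⟨U, W, e⟩, q, hq⟩)
    (fun U => isOpenImmersion_jU x U.1)

include hf in
theorem derOf_injective : Function.Injective (derOf (x := x) hf) := by
  intro φ φ' h
  refine Subtype.ext (Scheme.Cover.hom_ext (chartCover x f) _ _ fun U => ?_)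
  show jU x U.1 ≫ φ.1 = jU x U.1 ≫ φ'.1
  obtain ⟨W, e⟩ := U.2
  rw [← ePt_derOf hf φ U.1 W e, ← ePt_derOf hf φ' U.1 W e, h]

theorem agree (E : Der y ((Scheme.Modules.pushforward f).obj (Coh.structureModule X)))
    (U U' : X.affineOpens) (W W' : Y.affineOpens) (e : U.1 ≤ f ⁻¹ᵁ W.1) (e' : U'.1 ≤ f ⁻¹ᵁ W'.1) :
    pullback.fst (jU x U) (jU x U') ≫ ePt E U W e = pullback.snd (jU x U) (jU x U') ≫ ePt E U' W' e' := by
  haveI := isOpenImmersion_jU x U
  haveI := isOpenImmersion_jU x U'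
  let g := pullback.fst (jU x U) (jU x U') ≫ jU x U
  refine Scheme.hom_ext_of_forall _ _ fun p => ?_
  let O := prX x ⁻¹ᵁ (U.1 ⊓ U'.1)
  have hmem : ∀ (V : X.affineOpens) (q : Spec (L (Coh.structureModule X) V.1)), jU x V q ∈ prX x ⁻¹ᵁ V.1 :=
    fun V q => top_le_jU x V trivial
  have hp : g p ∈ O := by
    refine ⟨?_, ?_⟩
    · exact hmem U _
    · show g p ∈ prX x ⁻¹ᵁ U'.1
      rw [show g = pullback.snd (jU x U) (jU x U') ≫ jU x U' from pullback.condition]
      exact hmem U' _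
  obtain ⟨U'', W'', e'', q, hq, hUO⟩ := exists_jU_eq (f := f) (g p) O hp
  rw [preimage_prX] at hUO
  have h1 : U''.1 ≤ U.1 := hUO.trans inf_le_left
  have h2 : U''.1 ≤ U'.1 := hUO.trans inf_le_right
  haveI := isOpenImmersion_jU x U''
  let l : Spec (L (Coh.structureModule X) U''.1) ⟶ pullback (jU x U) (jU x U') :=
    pullback.lift (Spec.map (resL (Coh.structureModule X) h1)) (Spec.map (resL (Coh.structureModule X) h2))
      (by rw [resL_jU, resL_jU])
  have hlg : l ≫ g = jU x U'' := by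
    show pullback.lift _ _ _ ≫ pullback.fst _ _ ≫ _ = _
    rw [pullback.lift_fst_assoc, resL_jU]
  haveI : IsOpenImmersion g := inferInstanceAs (IsOpenImmersion (pullback.fst _ _ ≫ _))
  haveI : IsOpenImmersion l := by
    haveI : IsOpenImmersion (l ≫ g) := by rw [hlg]; infer_instance
    exact IsOpenImmersion.of_comp l g
  have hl : l q = p := by
    refine (Scheme.Hom.isOpenEmbedding g).injective ?_
    rw [← Scheme.Hom.comp_apply, hlg, hq]
  refine ⟨l.opensRange, ⟨q, hl⟩, ?_⟩
  rw [← IsOpenImmersion.lift_fac l l.opensRange.ι (by rw [Scheme.Opens.range_ι]; rfl), Category.assoc, Category.assoc]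
  refine congrArg (_ ≫ ·) ?_
  rw [pullback.lift_fst_assoc, pullback.lift_snd_assoc, resL_ePt, resL_ePt]
  exact ePt_indep E U'' _ _ _ _

include hf in
theorem derOf_surjective : Function.Surjective (derOf (x := x) hf) := by
  intro E
  let 𝒰 := chartCover x f
  let r : ∀ U : Idx f, Spec (L (Coh.structureModule X) U.1.1) ⟶ Y := fun U =>
    ePt E U.1 U.2.choose U.2.choose_spec
  let φ : (XE x).total ⟶ Y := Scheme.Cover.glueMorphisms 𝒰 r fun U U' => agree E U.1 U'.1 _ _ _ _
  have hφ : ∀ U : Idx f, jU x U.1 ≫ φ = r U := fun U => Scheme.Cover.ι_glueMorphisms 𝒰 r _ U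
  have h1 : φ ≫ y = pullback.snd x (specOver (dual k k)) ≫ specOver (dual k k) := by
    refine Scheme.Cover.hom_ext 𝒰 _ _ fun U => ?_
    show jU x U.1 ≫ _ = jU x U.1 ≫ _
    rw [← Category.assoc, hφ, ← pullback.condition, ← Category.assoc, jU_prX]
    refine (ePt_base E U.1 _ _ ⟨⟨⊤, isAffineOpen_top _⟩, le_top⟩).trans ?_
    rw [hf]
  have h2 : (XE x).i ≫ φ = f := by
    refine Scheme.hom_ext_of_forall _ _ fun w => ?_
    obtain ⟨U, ⟨W, e⟩, hwU, -⟩ := exists_small f w ⊤ trivial
    refine ⟨U.1, hwU, ?_⟩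
    rw [← U.2.isoSpec_hom_fromSpec, Category.assoc, Category.assoc]
    refine congrArg (_ ≫ ·) ?_
    rw [← Category.assoc, ← prL_jU, Category.assoc, hφ ⟨U, W, e⟩, prL_ePt]
  refine ⟨⟨φ, h1, h2⟩, der_ext_ePt _ _ fun U W e => ?_⟩
  rw [ePt_derOf]
  exact (hφ ⟨U, W, e⟩).trans (ePt_indep E U _ _ _ _)

end Groth.L14.HomTan
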