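import Groth.Agent.L14.HomTan.Values
import Groth.Agent.L14.LocHilb.HilbTangent
import Groth.Agent.L19.OmegaSh.Universal
import Mathlib.CategoryTheory.Monoidal.Cartesian.Over

/-! # The tangent space of a scheme of morphisms -/

set_option autoImplicit false
set_option linter.style.haveILetI false
set_option linter.unusedSectionVars false
set_option backward.isDefEq.respectTransparency.types false
set_option backward.isDefEq.respectTransparency false

universe u

open CategoryTheory CategoryTheory.Limits AlgebraicGeometry TopologicalSpace Opposite ArtFun ArtFun.Art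
  MonoidalCategory IsLocalRing

noncomputable section

namespace Groth.L14.HomTan

open Groth.L14.LocHilb (XE St stAlg stMap StHom ptOfDual ptOfDual_bijective ptOfPair ptOfPair_pr₁ ptOfPair_pr₂
  ptOfPair_plus ptOfDual_scale finrank_cotangent_eq ptOver ptHom resOver)
open Groth.L16.HomSh (homMod globalEquiv)

variable {k : Type u} [Field k] {X : Scheme.{u}} {x : X ⟶ specPt k} {Y : Scheme.{u}} {y : Y ⟶ specPt k}
  {M : Over (specPt k)} (υ : Over.mk x ⊗ M ⟶ Over.mk y) {f : X ⟶ Y} (hf : f ≫ y = x)
  (af : 𝟙_ (Over (specPt k)) ⟶ M)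
  (haf : (Over.mk x ◁ af) ≫ υ = (ρ_ (Over.mk x)).hom ≫ (Over.homMk f hf : Over.mk x ⟶ Over.mk y))

/-- The morphism of a point. -/
def phiA {A : Art k k} (φ : StHom M.hom af.left A) : pullback x (specOver A) ⟶ Y :=
  ((Over.mk x ◁ ptHom φ) ≫ υ).left

theorem phiA_base {A : Art k k} (φ : StHom M.hom af.left A) :
    phiA υ af φ ≫ y = pullback.snd x (specOver A) ≫ specOver A :=
  (Over.w ((Over.mk x ◁ ptHom φ) ≫ υ)).trans pullback.condition

include haf in
theorem incl_phiA {A : Art k k} (φ : StHom M.hom af.left A) : XAincl x A ≫ phiA υ af φ = f := by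
  let sect : X ⟶ pullback x (𝟙 (specPt k)) := pullback.lift (𝟙 X) x ((Category.id_comp x).trans (Category.comp_id x).symm)
  have e : XAincl x A ≫ (Over.mk x ◁ ptHom φ).left = sect ≫ (Over.mk x ◁ af).left := by
    apply pullback.hom_ext
    · rw [Category.assoc, Category.assoc]
      refine (congrArg (XAincl x A ≫ ·) (Over.whiskerLeft_left_fst (R := Over.mk x) (ptHom φ))).trans
        ((XAincl_fst x A).trans ?_)
      exact ((congrArg (sect ≫ ·) (Over.whiskerLeft_left_fst (R := Over.mk x) af)).trans (pullback.lift_fst _ _ _)).symm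
    · rw [Category.assoc, Category.assoc]
      refine (congrArg (XAincl x A ≫ ·) (Over.whiskerLeft_left_snd (R := Over.mk x) (ptHom φ))).trans
        (Eq.trans ?_ (congrArg (sect ≫ ·) (Over.whiskerLeft_left_snd (R := Over.mk x) af)).symm)
      refine ((Category.assoc _ _ _).symm.trans (congrArg (· ≫ (ptHom φ).left) (XAincl_snd x A))).trans
        (Eq.trans ?_ ((Category.assoc _ _ _).symm.trans (congrArg (· ≫ af.left) (pullback.lift_snd _ _ _))).symm)
      rw [Category.assoc]
      exact congrArg (x ≫ ·) φ.specRes_pt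
  show XAincl x A ≫ (Over.mk x ◁ ptHom φ).left ≫ υ.left = f
  rw [← Category.assoc, e, Category.assoc]
  refine (congrArg (sect ≫ ·) (congrArg CommaMorphism.left haf)).trans ?_
  show sect ≫ pullback.fst x (𝟙 _) ≫ f = f
  rw [pullback.lift_fst_assoc, Category.id_comp]

theorem whisker_map {A B : Art k k} (μ : A ⟶ B) (φ : StHom M.hom af.left A) :
    (Over.mk x ◁ ptHom (φ.map μ)).left = XAmap x μ ≫ (Over.mk x ◁ ptHom φ).left := by
  apply pullback.hom_ext
  · rw [Category.assoc]
    exact (Over.whiskerLeft_left_fst (R := Over.mk x) (ptHom (φ.map μ))).trans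
      (((congrArg (XAmap x μ ≫ ·) (Over.whiskerLeft_left_fst (R := Over.mk x) (ptHom φ))).trans (XAmap_fst x μ)).symm)
  · rw [Category.assoc]
    refine (Over.whiskerLeft_left_snd (R := Over.mk x) (ptHom (φ.map μ))).trans
      (Eq.trans ?_ (congrArg (XAmap x μ ≫ ·) (Over.whiskerLeft_left_snd (R := Over.mk x) (ptHom φ))).symm)
    refine Eq.trans ?_ ((Category.assoc _ _ _).symm.trans (congrArg (· ≫ φ.pt) (XAmap_snd x μ))).symm
    rw [Category.assoc]
    exact congrArg (pullback.snd x (specOver B) ≫ ·) (φ.pt_map μ)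

theorem phiA_map {A B : Art k k} (μ : A ⟶ B) (φ : StHom M.hom af.left A) :
    phiA υ af (φ.map μ) = XAmap x μ ≫ phiA υ af φ := by
  show (Over.mk x ◁ ptHom (φ.map μ)).left ≫ υ.left = XAmap x μ ≫ (Over.mk x ◁ ptHom φ).left ≫ υ.left
  rw [← Category.assoc, ← whisker_map]

/-- The deformation of `f` of a point. -/
def ptsOf (φ : StHom M.hom af.left (dual k k)) : Pts x y f :=
  ⟨phiA υ af φ, phiA_base υ af φ, incl_phiA υ hf af haf φ⟩

include haf in
theorem ptsOf_bijective (hM : ∀ (T : Over (specPt k)) (φ : Over.mk x ⊗ T ⟶ Over.mk y),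
    ∃! a : T ⟶ M, (Over.mk x ◁ a) ≫ υ = φ) : Function.Bijective (ptsOf υ hf af haf) := by
  refine ⟨fun φ ψ h => StHom.pt_injective ?_, fun Φ => ?_⟩
  · obtain ⟨a, -, hu⟩ := hM (ptOver (dual k k)) ((Over.mk x ◁ ptHom φ) ≫ υ)
    have hψ : (Over.mk x ◁ ptHom ψ) ≫ υ = (Over.mk x ◁ ptHom φ) ≫ υ :=
      Over.OverMorphism.ext (congrArg Subtype.val h).symm
    exact congrArg CommaMorphism.left ((hu (ptHom φ) rfl).trans (hu (ptHom ψ) hψ).symm)
  · let Φ' : Over.mk x ⊗ ptOver (dual k k) ⟶ Over.mk y := Over.homMk Φ.1 (Φ.2.1.trans pullback.condition.symm)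
    obtain ⟨a, ha, -⟩ := hM (ptOver (dual k k)) Φ'
    obtain ⟨a₀, -, hu⟩ := hM (𝟙_ (Over (specPt k))) ((ρ_ (Over.mk x)).hom ≫ (Over.homMk f hf : Over.mk x ⟶ Over.mk y))
    let r : 𝟙_ (Over (specPt k)) ⟶ ptOver (dual k k) := resOver (dual k k)
    have e : r ≫ a = af := by
      refine (hu _ ?_).trans (hu af haf).symm
      show (Over.mk x ◁ (r ≫ a)) ≫ υ = _
      rw [MonoidalCategory.whiskerLeft_comp, Category.assoc, ha]
      refine Over.OverMorphism.ext ?_
      show (Over.mk x ◁ r).left ≫ Φ.1 = pullback.fst x (𝟙 _) ≫ f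
      have er : (Over.mk x ◁ r).left = pullback.fst x (𝟙 (specPt k)) ≫ XAincl x (dual k k) := by
        apply pullback.hom_ext
        · rw [Category.assoc]
          exact (Over.whiskerLeft_left_fst (R := Over.mk x) r).trans
            ((congrArg (_ ≫ ·) (XAincl_fst x (dual k k))).trans (Category.comp_id _)).symm
        · rw [Category.assoc]
          refine (Over.whiskerLeft_left_snd (R := Over.mk x) r).trans
            (Eq.trans ?_ (congrArg (_ ≫ ·) (XAincl_snd x (dual k k))).symm)
          rw [← Category.assoc, pullback.condition]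
          exact congrArg (· ≫ specRes (dual k k)) (Category.comp_id _).symm
      rw [er, Category.assoc]
      exact congrArg (_ ≫ ·) Φ.2.2
    obtain ⟨φ, hφ⟩ := StHom.exists_pt (π := M.hom) (σ := af.left) a.left (Over.w a) (congrArg CommaMorphism.left e)
    refine ⟨φ, Subtype.ext ?_⟩
    have hpa : ptHom φ = a := Over.OverMorphism.ext hφ
    show ((Over.mk x ◁ ptHom φ) ≫ υ).left = Φ.1
    rw [hpa, ha]
    rfl

set_option maxHeartbeats 1000000 in
include haf in
/-- The tangent space of a scheme of morphisms has the dimension of `H⁰` of the pulled back tangent sheaf. -/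
theorem finrank_tangent [QuasiSeparated y]
    (hM : ∀ (T : Over (specPt k)) (φ : Over.mk x ⊗ T ⟶ Over.mk y), ∃! a : T ⟶ M, (Over.mk x ◁ a) ≫ υ = φ)
    [X.Over (Spec (CommRingCat.of k))] (hX : x = X ↘ Spec (CommRingCat.of k))
    [DCoh.HasSheafHom ((Scheme.Modules.pullback f).obj (Omega.sheaf y))] :
    Module.finrank (ResidueField (M.left.presheaf.stalk (af.left.base (closedPoint k))))
        (CotangentSpace (M.left.presheaf.stalk (af.left.base (closedPoint k)))) =
      Module.finrank k (Coh.HH X
        ((DCoh.sheafHom ((Scheme.Modules.pullback f).obj (Omega.sheaf y))).obj (Coh.structureModule X)) 0) := by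
  let σ : specPt k ⟶ M.left := af.left
  let π : M.left ⟶ specPt k := M.hom
  have hσ : σ ≫ π = 𝟙 _ := Over.w af
  letI : Algebra k (St σ) := stAlg π σ
  have halg : algebraMap k (St σ) = (stMap π σ).hom := rfl
  refine (finrank_cotangent_eq π σ hσ halg).trans ?_
  let adj := Scheme.Modules.pullbackPushforwardAdjunction f
  haveI := adj.left_adjoint_additive
  let O := Coh.structureModule X
  let Ω := Omega.sheaf y
  let C := (Scheme.Modules.pullback f).obj Ω
  let e := adj.homEquiv Ω O
  let iso := (Groth.L16.HomSh.sheafHomIso C).app O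
  let D : (CotangentSpace (St σ) →ₗ[k] k) → OmegaSh.Der y ((Scheme.Modules.pushforward f).obj O) := fun l =>
    derOf hf (ptsOf υ hf af haf (ptOfDual π σ hσ halg l))
  have hd : Function.Bijective (derOf (x := x) hf) := ⟨derOf_injective hf, derOf_surjective hf⟩
  have hD : Function.Bijective D :=
    hd.comp ((ptsOf_bijective υ hf af haf hM).comp (ptOfDual_bijective π σ hσ halg))
  have huniv := Groth.L19.OmegaSh.isUniversal_dOmega (f := y)
  let P : (Ω ⟶ (Scheme.Modules.pushforward f).obj O) → OmegaSh.Der y ((Scheme.Modules.pushforward f).obj O) :=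
    fun α => (OmegaSh.dOmega y).postcomp α.val
  have hP : Function.Bijective P := by
    refine ⟨fun a b h => ?_, fun E => ?_⟩
    · obtain ⟨c, -, hc⟩ := huniv _ (P a)
      exact (hc a rfl).trans (hc b h.symm).symm
    · obtain ⟨c, hc, -⟩ := huniv _ E
      exact ⟨c, hc⟩
  let α : (CotangentSpace (St σ) →ₗ[k] k) → (Ω ⟶ (Scheme.Modules.pushforward f).obj O) := fun l =>
    (Equiv.ofBijective P hP).symm (D l)
  have hα : ∀ l, P (α l) = D l := fun l => (Equiv.ofBijective P hP).apply_symm_apply (D l)
  have hαb : Function.Bijective α := (Equiv.ofBijective P hP).symm.bijective.comp hD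
  have hadd : ∀ l l', α (l + l') = α l + α l' := fun l l' => hP.1 (by
    rw [hα]
    refine PresheafOfModules.Derivation.ext ?_
    ext Z a
    let p2 := ptOfPair π σ hσ halg l l'
    refine (derOf_value_add x hf (phiA υ af p2) (incl_phiA υ hf af haf p2) (ptsOf υ hf af haf (ptOfDual π σ hσ halg l))
      (ptsOf υ hf af haf (ptOfDual π σ hσ halg l')) _ ?_ ?_ ?_ Z.unop a).trans ?_
    · exact (congrArg (phiA υ af) (ptOfPair_pr₁ π σ hσ halg l l').symm).trans (phiA_map υ af pr₁ p2)
    · exact (congrArg (phiA υ af) (ptOfPair_pr₂ π σ hσ halg l l').symm).trans (phiA_map υ af pr₂ p2)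
    · exact (congrArg (phiA υ af) (ptOfPair_plus π σ hσ halg l l').symm).trans (phiA_map υ af plus p2)
    · show (D l).app Z.unop a + (D l').app Z.unop a = (P (α l + α l')).app Z.unop a
      rw [← hα l, ← hα l']
      rfl)
  have hsmul : ∀ (c : k) l, α (c • l) =
      α l ≫ (Scheme.Modules.pushforward f).map (Formal.smulModΓ O (Coh.toGlobal x c)) := fun c l => hP.1 (by
    rw [hα]
    refine PresheafOfModules.Derivation.ext ?_
    ext Z a
    refine (derOf_value_smul x hf c (ptsOf υ hf af haf (ptOfDual π σ hσ halg l)) _ ?_ Z.unop a).trans ?_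
    · exact (congrArg (phiA υ af) (ptOfDual_scale π σ hσ halg c l).symm).trans (phiA_map υ af (scale c) _)
    · show (Formal.smulModΓ O _).app _ ((D l).app Z.unop a) = _
      rw [← hα l]
      rfl)
  let G : (C ⟶ O) → Γ((DCoh.sheafHom C).obj O, ⊤) := fun g => iso.inv.app ⊤ (globalEquiv C O g)
  have hG : Function.Bijective G :=
    (ConcreteCategory.bijective_of_isIso (iso.inv.app ⊤)).comp (globalEquiv C O).bijective
  have he : ∀ g g', e.symm (g + g') = e.symm g + e.symm g' := fun g g' => by
    simp only [e, Adjunction.homEquiv_counit, Functor.map_add, Preadditive.add_comp]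
  let e₀ := Groth.L21.RR.e0 ((DCoh.sheafHom C).obj O)
  let T : (CotangentSpace (St σ) →ₗ[k] k) →ₗ[k] Coh.HH X ((DCoh.sheafHom C).obj O) 0 :=
    { toFun := fun l => e₀.symm (G (e.symm (α l)))
      map_add' := fun l l' => by
        simp only [G]
        rw [hadd, he, map_add, map_add, map_add]
      map_smul' := fun c l => by
        apply e₀.injective
        rw [RingHom.id_apply, Groth.L21.RR.e0_smul, AddEquiv.apply_symm_apply, AddEquiv.apply_symm_apply]
        refine Eq.trans ?_ (Scheme.Modules.Hom.app_smul iso.inv _ _)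
        refine congrArg (fun t => iso.inv.app ⊤ t) ?_
        refine (congrArg (globalEquiv C O) ?_).trans (Groth.L14.LocHilb.globalEquiv_smulModΓ (e.symm (α l)) _)
        rw [hsmul, hX]
        exact adj.homEquiv_naturality_right_symm _ _ }
  exact (LinearEquiv.ofBijective T (e₀.symm.bijective.comp (hG.comp (e.symm.bijective.comp hαb)))).finrank_eq

end Groth.L14.HomTan
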