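import Groth.Agent.L14.HomTan.Morph
import Groth.Prelude.Def_KLin

/-! # Values of the derivation of an infinitesimal deformation of a morphism -/

set_option autoImplicit false
set_option linter.style.haveILetI false
set_option linter.unusedSectionVars false
set_option backward.isDefEq.respectTransparency.types false
set_option backward.isDefEq.respectTransparency false

universe u

open CategoryTheory CategoryTheory.Limits AlgebraicGeometry TopologicalSpace Opposite ArtFun ArtFun.Art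

noncomputable section

namespace Groth.L14.HomTan

open Groth.L18.Frame (rs ro rs_rs ro_ro rs_smul ro_self rs_self)
open Groth.L19.OmegaSh
open Groth.L14.DefLift (surjective_i)
open Groth.L14.LocHilb (trivXA prX XE)
open _root_.OmegaSh (Der)

variable {k : Type u} [Field k] {X : Scheme.{u}} (x : X ⟶ specPt k)

/-- The constants in an algebra over the sections. -/
theorem compat_lift {A : Art k k} (U : X.affineOpens) {R : CommRingCat.{u}} (ι : Γ(X, U.1) ⟶ R) (κR : A →+* R)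
    (hk : ∀ c : k, κR (algebraMap k A c) = ι (kU x U.1 c)) :
    (Spec.map ι ≫ U.2.fromSpec) ≫ x = Spec.map (CommRingCat.ofHom κR) ≫ specOver A := by
  rw [Category.assoc, ← specMap_kU x U.2, ← Spec.map_comp]
  show _ = _ ≫ Spec.map (CommRingCat.ofHom (algebraMap k A))
  rw [← Spec.map_comp]
  congr 1
  ext c
  exact (hk c).symm

/-- The chart over an affine open with coefficients in `R`. -/
def jR {A : Art k k} (U : X.affineOpens) {R : CommRingCat.{u}} (ι : Γ(X, U.1) ⟶ R) (κR : A →+* R)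
    (hk : ∀ c : k, κR (algebraMap k A c) = ι (kU x U.1 c)) : Spec R ⟶ pullback x (specOver A) :=
  pullback.lift (Spec.map ι ≫ U.2.fromSpec) (Spec.map (CommRingCat.ofHom κR)) (compat_lift x U ι κR hk)

theorem jR_fst {A : Art k k} (U : X.affineOpens) {R : CommRingCat.{u}} (ι : Γ(X, U.1) ⟶ R) (κR : A →+* R)
    (hk : ∀ c : k, κR (algebraMap k A c) = ι (kU x U.1 c)) :
    jR x U ι κR hk ≫ pullback.fst x (specOver A) = Spec.map ι ≫ U.2.fromSpec := pullback.lift_fst _ _ _

theorem jR_snd {A : Art k k} (U : X.affineOpens) {R : CommRingCat.{u}} (ι : Γ(X, U.1) ⟶ R) (κR : A →+* R)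
    (hk : ∀ c : k, κR (algebraMap k A c) = ι (kU x U.1 c)) :
    jR x U ι κR hk ≫ pullback.snd x (specOver A) = Spec.map (CommRingCat.ofHom κR) := pullback.lift_snd _ _ _

variable {Y : Scheme.{u}} {y : Y ⟶ specPt k} {f : X ⟶ Y}

theorem top_le_jR {A : Art k k} (U : X.affineOpens) {R : CommRingCat.{u}} (ι : Γ(X, U.1) ⟶ R) (κR : A →+* R)
    (hk : ∀ c : k, κR (algebraMap k A c) = ι (kU x U.1 c)) (Φ : pullback x (specOver A) ⟶ Y)
    (hΦ : XAincl x A ≫ Φ = f) {Z : Y.Opens} (e : U.1 ≤ f ⁻¹ᵁ Z) : ⊤ ≤ (jR x U ι κR hk ≫ Φ) ⁻¹ᵁ Z := by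
  intro p _
  obtain ⟨w, hw⟩ := surjective_i (trivXA (x := x) A) (jR x U ι κR hk p)
  have hwU : w ∈ U.1 := by
    have h1 : w = (jR x U ι κR hk ≫ pullback.fst x (specOver A)) p :=
      ((congrArg (fun g : X ⟶ X => g w) (XAincl_fst x A)).symm.trans
        (congrArg (pullback.fst x (specOver A)) hw) :)
    rw [h1, jR_fst]
    exact U.2.range_fromSpec.le ⟨Spec.map ι p, rfl⟩
  show Φ (jR x U ι κR hk p) ∈ Z
  rw [← hw]
  show Φ (XAincl x A w) ∈ Z
  rw [← Scheme.Hom.comp_apply, hΦ]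
  exact e hwU

variable (hf : f ≫ y = x)

/-- The values of the derivation of a deformation obtained from a deformation with larger coefficients. -/
theorem derOf_value {A : Art k k} (μA : A ⟶ dual k k) (Φ : pullback x (specOver A) ⟶ Y)
    (hΦ : XAincl x A ≫ Φ = f) (φ : Pts x y f) (hφ : φ.1 = XAmap x μA ≫ Φ)
    (U : X.affineOpens) (hU : Small f U) {R : CommRingCat.{u}} (ι : Γ(X, U.1) ⟶ R) (κR : A →+* R)
    (hk : ∀ c : k, κR (algebraMap k A c) = ι (kU x U.1 c))
    (π : R ⟶ L (Coh.structureModule X) U.1) (hι : ι ≫ π = inlL (Coh.structureModule X) U.1)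
    (hκ : ∀ a, π (κR a) = κ x U.1 (μA a))
    (Z : Y.Opens) (e : U.1 ≤ f ⁻¹ᵁ Z) (a : Γ(Y, Z)) :
    rs (Coh.structureModule X) e ((derOf hf φ).app Z a) =
      snd' (Coh.structureModule X) (π (((jR x U ι κR hk ≫ Φ).appLE Z ⊤ (top_le_jR x U ι κR hk Φ hΦ e) ≫
        (Scheme.ΓSpecIso R).hom) a)) := by
  refine ((famOf hf φ).val_spec Z a U hU e).trans (congrArg (snd' (Coh.structureModule X)) ?_)
  have hj : jU x U ≫ φ.1 = Spec.map π ≫ jR x U ι κR hk ≫ Φ := by
    rw [hφ, ← Category.assoc, ← Category.assoc]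
    refine congrArg (· ≫ Φ) ?_
    apply pullback.hom_ext
    · rw [Category.assoc, XAmap_fst, Category.assoc, jR_fst, ← Category.assoc, ← Spec.map_comp, hι]
      exact jU_prX x U
    · rw [Category.assoc, XAmap_snd, Category.assoc, jR_snd, ← Category.assoc, ← Spec.map_comp]
      refine (congrArg (· ≫ specMap μA) (jU_snd x U)).trans ?_
      rw [specMap, ← Spec.map_comp]
      congr 1
      ext a
      exact (hκ a).symm
  have e' : ⊤ ≤ (Spec.map π ≫ jR x U ι κR hk ≫ Φ) ⁻¹ᵁ Z := fun p _ =>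
    top_le_jR x U ι κR hk Φ hΦ e (Set.mem_univ (Spec.map π p))
  refine (congr($(τ_congr _ hj Z _ e') a)).trans ?_
  rw [τ, ← Scheme.Hom.appLE_comp_appLE (Spec.map π) (jR x U ι κR hk ≫ Φ) Z ⊤ ⊤
    (top_le_jR x U ι κR hk Φ hΦ e) le_top,
    show (Spec.map π).appLE ⊤ ⊤ le_top = (Spec.map π).appTop from (Scheme.Hom.app_eq_appLE _).symm,
    Category.assoc, Scheme.ΓSpecIso_naturality]
  rfl

/-- `Γ(X, U)[ε₁, ε₂]`. -/
def R2 (U : X.Opens) : CommRingCat.{u} := CommRingCat.of (TrivSqZeroExt Γ(X, U) (Γ(X, U) × Γ(X, U)))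

/-- The coefficients `k[ε₁, ε₂] → Γ(X, U)[ε₁, ε₂]`. -/
def κ₂ (U : X.Opens) : dual2 k k →+* R2 U where
  toFun a := (show TrivSqZeroExt Γ(X, U) (Γ(X, U) × Γ(X, U)) from
    (kU x U (TrivSqZeroExt.fst (show TrivSqZeroExt k (k × k) from a)),
      (kU x U (TrivSqZeroExt.snd (show TrivSqZeroExt k (k × k) from a)).1,
        kU x U (TrivSqZeroExt.snd (show TrivSqZeroExt k (k × k) from a)).2)))
  map_one' := TrivSqZeroExt.ext (map_one (kU x U)) (Prod.ext (map_zero (kU x U)) (map_zero (kU x U)))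
  map_zero' := TrivSqZeroExt.ext (map_zero (kU x U)) (Prod.ext (map_zero (kU x U)) (map_zero (kU x U)))
  map_add' a b := TrivSqZeroExt.ext (map_add (kU x U) _ _) (Prod.ext (map_add (kU x U) _ _) (map_add (kU x U) _ _))
  map_mul' a b := by
    refine TrivSqZeroExt.ext (map_mul (kU x U) _ _) (Prod.ext ?_ ?_)
    · exact (map_add (kU x U) _ _).trans (congrArg₂ (· + ·) (map_mul (kU x U) _ _) (map_mul (kU x U) _ _))
    · exact (map_add (kU x U) _ _).trans (congrArg₂ (· + ·) (map_mul (kU x U) _ _) (map_mul (kU x U) _ _))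

/-- The inclusion of the sections. -/
def ι₂ (U : X.Opens) : Γ(X, U) ⟶ R2 U :=
  CommRingCat.ofHom (TrivSqZeroExt.inlHom Γ(X, U) (Γ(X, U) × Γ(X, U)))

/-- A linear combination of the two infinitesimal components. -/
def πL (U : X.Opens) (c₁ c₂ : Γ(X, U)) : R2 U ⟶ L (Coh.structureModule X) U :=
  CommRingCat.ofHom (R := R2 U) (S := L (Coh.structureModule X) U)
    { toFun := fun z => mk (Coh.structureModule X) U (TrivSqZeroExt.fst (show TrivSqZeroExt Γ(X, U) (Γ(X, U) × Γ(X, U)) from z))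
        (show Γ(X, U) from c₁ * (TrivSqZeroExt.snd (show TrivSqZeroExt Γ(X, U) (Γ(X, U) × Γ(X, U)) from z)).1 +
          c₂ * (TrivSqZeroExt.snd (show TrivSqZeroExt Γ(X, U) (Γ(X, U) × Γ(X, U)) from z)).2)
      map_one' := Groth.L19.OmegaSh.ext _ ((fst_mk _ _ _).trans (fst_one (Coh.structureModule X) U).symm)
        ((snd_mk _ _ _).trans (Eq.trans (show c₁ * 0 + c₂ * 0 = (0 : Γ(X, U)) by ring) (snd_one (Coh.structureModule X) U).symm))
      map_zero' := Groth.L19.OmegaSh.ext _ ((fst_mk _ _ _).trans (fst_zero (Coh.structureModule X) U).symm)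
        ((snd_mk _ _ _).trans (Eq.trans (show c₁ * 0 + c₂ * 0 = (0 : Γ(X, U)) by ring) (snd_zero (Coh.structureModule X) U).symm))
      map_add' := fun z w => by
        refine Groth.L19.OmegaSh.ext _ ?_ ?_
        · rw [fst_add, fst_mk, fst_mk, fst_mk]
          rfl
        · rw [snd_add, snd_mk, snd_mk, snd_mk]
          show c₁ * (_ + _) + c₂ * (_ + _) = (c₁ * _ + c₂ * _) + (c₁ * _ + c₂ * _)
          simp only [TrivSqZeroExt.fst, TrivSqZeroExt.snd]
          ring
      map_mul' := fun z w => by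
        refine Groth.L19.OmegaSh.ext _ ?_ ?_
        · rw [fst_mul, fst_mk, fst_mk, fst_mk]
          rfl
        · rw [snd_mul, snd_mk, snd_mk, snd_mk, fst_mk, fst_mk]
          show c₁ * (_ * _ + _ * _) + c₂ * (_ * _ + _ * _) = _ * (c₁ * _ + c₂ * _) + _ * (c₁ * _ + c₂ * _)
          simp only [TrivSqZeroExt.fst, TrivSqZeroExt.snd, MulOpposite.unop_op]
          ring }

theorem ι₂_πL (U : X.Opens) (c₁ c₂ : Γ(X, U)) : ι₂ U ≫ πL U c₁ c₂ = inlL (Coh.structureModule X) U := by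
  ext a
  refine Groth.L19.OmegaSh.ext _ ((fst_mk _ _ _).trans (fst_inlL U a).symm)
    ((snd_mk _ _ _).trans (Eq.trans ?_ (snd_inlL U a).symm))
  show c₁ * 0 + c₂ * 0 = (0 : Γ(X, U))
  ring

theorem κ₂_algebraMap (U : X.Opens) (c : k) : κ₂ x U (algebraMap k (dual2 k k) c) = ι₂ U (kU x U c) :=
  TrivSqZeroExt.ext rfl (Prod.ext (map_zero (kU x U)) (map_zero (kU x U)))

theorem πL_κ₂ (U : X.Opens) (c₁ c₂ : k) (a : dual2 k k) (μA : dual2 k k ⟶ dual k k)
    (hfst : ∀ b, TrivSqZeroExt.fst (show DualNumber k from μA b) = TrivSqZeroExt.fst (show TrivSqZeroExt k (k × k) from b))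
    (hsnd : ∀ b, TrivSqZeroExt.snd (show DualNumber k from μA b) =
      c₁ * (TrivSqZeroExt.snd (show TrivSqZeroExt k (k × k) from b)).1 +
        c₂ * (TrivSqZeroExt.snd (show TrivSqZeroExt k (k × k) from b)).2) :
    πL U (kU x U c₁) (kU x U c₂) (κ₂ x U a) = κ x U (μA a) := by
  refine Groth.L19.OmegaSh.ext _ ((fst_mk _ _ _).trans (Eq.trans ?_ (fst_mk _ _ _).symm))
    ((snd_mk _ _ _).trans (Eq.trans ?_ (snd_mk _ _ _).symm))
  · exact congrArg (kU x U) (hfst a).symm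
  · rw [hsnd a, map_add, map_mul, map_mul]
    rfl

set_option maxHeartbeats 1000000 in
/-- Additivity of the derivation in the infinitesimal direction. -/
theorem derOf_value_add (Φ : pullback x (specOver (dual2 k k)) ⟶ Y) (hΦ : XAincl x (dual2 k k) ≫ Φ = f)
    (φ₁ φ₂ φ : Pts x y f) (h₁ : φ₁.1 = XAmap x pr₁ ≫ Φ) (h₂ : φ₂.1 = XAmap x pr₂ ≫ Φ)
    (h : φ.1 = XAmap x plus ≫ Φ) (Z : Y.Opens) (a : Γ(Y, Z)) :
    (derOf hf φ).app Z a = (derOf hf φ₁).app Z a + (derOf hf φ₂).app Z a := by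
  refine eq_of_basis (G := Coh.structureModule X) (Small f) (exists_small f) (Z := f ⁻¹ᵁ Z) _ _
    fun U hU e => ?_
  show rs (Coh.structureModule X) e ((derOf hf φ).app Z a) =
    rs (Coh.structureModule X) e ((derOf hf φ₁).app Z a + (derOf hf φ₂).app Z a)
  refine Eq.trans ?_ (map_add _ _ _).symm
  rw [derOf_value x hf plus Φ hΦ φ h U hU (ι₂ U.1) (κ₂ x U.1) (κ₂_algebraMap x U.1)
      (πL U.1 (kU x U.1 1) (kU x U.1 1)) (ι₂_πL _ _ _)
      (fun b => πL_κ₂ x U.1 1 1 b plus (fun _ => rfl) (fun b => by rw [one_mul, one_mul]; rfl)) Z e a]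
  refine Eq.trans ?_ (congrArg₂ (· + ·)
    (derOf_value x hf pr₁ Φ hΦ φ₁ h₁ U hU (ι₂ U.1) (κ₂ x U.1) (κ₂_algebraMap x U.1)
      (πL U.1 (kU x U.1 1) (kU x U.1 0)) (ι₂_πL _ _ _)
      (fun b => πL_κ₂ x U.1 1 0 b pr₁ (fun _ => rfl) (fun b => by rw [one_mul, zero_mul, add_zero]; rfl)) Z e a)
    (derOf_value x hf pr₂ Φ hΦ φ₂ h₂ U hU (ι₂ U.1) (κ₂ x U.1) (κ₂_algebraMap x U.1)
      (πL U.1 (kU x U.1 0) (kU x U.1 1)) (ι₂_πL _ _ _)
      (fun b => πL_κ₂ x U.1 0 1 b pr₂ (fun _ => rfl) (fun b => by rw [one_mul, zero_mul, zero_add]; rfl)) Z e a)).symm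
  refine (snd_mk _ _ _).trans (Eq.trans ?_ (congrArg₂ (· + ·) (snd_mk _ _ _) (snd_mk _ _ _)).symm)
  rw [map_one, map_zero]
  show (1 : Γ(X, U.1)) * _ + 1 * _ = (1 * _ + 0 * _) + (0 * _ + 1 * _)
  ring

/-- Scaling of the infinitesimal direction. -/
def σc (U : X.Opens) (c : Γ(X, U)) : L (Coh.structureModule X) U ⟶ L (Coh.structureModule X) U :=
  liftHom (Coh.structureModule X) (prL (Coh.structureModule X) U)
    (AddMonoidHom.mk' (fun z => c • snd' (Coh.structureModule X) z) fun z w => by rw [snd_add, smul_add])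
    fun z w => by
      show c • snd' (Coh.structureModule X) (z * w) =
        fst' _ z • (c • snd' (Coh.structureModule X) w) + fst' _ w • (c • snd' (Coh.structureModule X) z)
      rw [snd_mul, smul_add, smul_comm c, smul_comm c]

set_option maxHeartbeats 1000000 in
/-- Homogeneity of the derivation in the infinitesimal direction. -/
theorem derOf_value_smul (c : k) (φ φ' : Pts x y f) (h : φ'.1 = XAmap x (scale c) ≫ φ.1)
    (Z : Y.Opens) (a : Γ(Y, Z)) :
    (derOf hf φ').app Z a =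
      (Formal.smulModΓ (Coh.structureModule X) (Coh.toGlobal x c)).app (f ⁻¹ᵁ Z) ((derOf hf φ).app Z a) := by
  refine eq_of_basis (G := Coh.structureModule X) (Small f) (exists_small f) (Z := f ⁻¹ᵁ Z) _ _ fun U hU e => ?_
  have hk : ∀ c : k, κ x U.1 (algebraMap k (dual k k) c) = inlL (Coh.structureModule X) U.1 (kU x U.1 c) := fun c =>
    ConcreteCategory.congr_hom (κ_algebraMap x U.1) c
  have hψ := derOf_value x hf (scale c) φ.1 φ.2.2 φ' h U hU (inlL (Coh.structureModule X) U.1) (κ x U.1) hk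
    (σc U.1 (kU x U.1 c)) (CommRingCat.hom_ext (RingHom.ext fun b => Groth.L19.OmegaSh.ext _
      ((fst_mk _ _ _).trans rfl) ((snd_mk _ _ _).trans (by
        show kU x U.1 c • snd' (Coh.structureModule X) (inlL (Coh.structureModule X) U.1 b) = _
        rw [snd_inlL, smul_zero]))))
    (fun b => Groth.L19.OmegaSh.ext _ ((fst_mk _ _ _).trans ((fst_mk _ _ _).trans (fst_mk _ _ _).symm))
      ((snd_mk _ _ _).trans (by
        show kU x U.1 c • snd' (Coh.structureModule X) (κ x U.1 b) = _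
        refine (congrArg (kU x U.1 c • ·) (snd_mk _ _ _)).trans (Eq.trans ?_ (snd_mk _ _ _).symm)
        exact (map_mul (kU x U.1) c _).symm))) Z e a
  have hv := (famOf hf φ).val_spec Z a U hU e
  refine hψ.trans ((snd_mk _ _ _).trans ?_)
  refine Eq.trans ?_ (congrArg (rs (Coh.structureModule X) e)
    (KLin.smulModΓ_app_apply (Coh.structureModule X) (Coh.toGlobal x c) (f ⁻¹ᵁ Z) _)).symm
  refine Eq.trans ?_ (rs_smul _ e _ _).symm
  refine congrArg₂ (fun (r : Γ(X, U.1)) (m : Γ(Coh.structureModule X, U.1)) => r • m) ?_ hv.symm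
  refine Eq.trans ?_ (ro_ro (show f ⁻¹ᵁ Z ≤ ⊤ from le_top) e _).symm
  exact (ro_kU x (le_top : U.1 ≤ ⊤) c).symm.trans (congrArg (ro _) (by
    show x.appLE ⊤ ⊤ _ _ = _
    exact (congr($(Scheme.Hom.app_eq_appLE (f := x) (U := ⊤)) _)).symm))

end Groth.L14.HomTan
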